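import Groth.Agent.RedQuot.Main
import Groth.Agent.S3278

/-!
# Images of unipotent radicals
-/

set_option autoImplicit false
set_option backward.isDefEq.respectTransparency false
set_option linter.style.haveILetI false
set_option linter.unusedSectionVars false
set_option maxHeartbeats 1000000
set_option synthInstance.maxHeartbeats 200000

universe u

open CategoryTheory CategoryTheory.Limits MonoidalCategory CartesianMonoidalCategory MonObj GrpObj AlgebraicGeometry
open Groth.Agent.SubGen (rpt map_rpt exists_rpt)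

noncomputable section

namespace Groth.Agent.RedQuot

open Chev Chev.BorelFixed Chev.Borel RedCartan UniRad

variable {k : Type u} [Field k] [IsAlgClosed k]

/-- A homomorphic image of a group without subtori has no subtori. -/
theorem image_noSubtorus {U K : Over (Spec (CommRingCat.of k))} [GrpObj U] [GrpObj K] [IsAffine U.left] [Smooth U.hom]
    [ConnectedSpace U.left] [LocallyOfFiniteType K.hom] [QuasiCompact K.hom] (hU : Red.HasNoSubtorus k U)
    (π : U ⟶ K) [IsMonHom π] [Surjective π.left] : Red.HasNoSubtorus k K := by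
  obtain ⟨T, B₀, _, _, t₀, b₀, -, -, -, hT, -⟩ := exists_maxTorus U
  haveI := hT.1; haveI := hT.2.1
  haveI : IsIso T.hom := hU T (t₀ ≫ b₀) hT.2.2.1
  haveI : IsAffineHom U.hom := isAffineHom_of_isAffine U.hom
  haveI : IsIso (𝟙_ (Over (Spec (CommRingCat.of k)))).hom := inferInstanceAs (IsIso (𝟙 _))
  haveI : IsIso (toUnit T).left := by rw [Over.toUnit_left]; infer_instance
  haveI : IsIso ((Over.forget _).map (toUnit T)) := ‹IsIso (toUnit T).left›
  haveI : IsIso (toUnit T) := isIso_of_reflects_iso _ (Over.forget _)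
  haveI : IsMonHom (toUnit T) := ⟨toUnit_unique _ _, toUnit_unique _ _⟩
  haveI : IsMonHom (asIso (toUnit T)).hom := ‹IsMonHom (toUnit T)›
  have hone : Red.IsTorus (𝟙_ (Over (Spec (CommRingCat.of k)))) := isTorus_of_iso (asIso (toUnit T)) hT.2.2.1
  haveI : IsMonHom (η[K] : 𝟙_ _ ⟶ K) := inferInstance
  haveI : Mono (η[K] : 𝟙_ _ ⟶ K) := ⟨fun {Z} a b _ => toUnit_unique a b⟩
  haveI : Surjective (toUnit T).left := inferInstance
  have hmax : AGF.IsMaxTorus (η[K] : 𝟙_ _ ⟶ K) :=
    MaxTorusImage.isMaxTorus_image π (t₀ ≫ b₀) hT (η[K] : 𝟙_ _ ⟶ K) hone (toUnit T) (by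
      have h1 : t₀ ≫ b₀ = toUnit T ≫ η[U] := by
        refine (cancel_epi (inv (toUnit T))).1 ?_
        rw [IsIso.inv_hom_id_assoc, ← Category.assoc]
        haveI : IsMonHom (inv (toUnit T)) := inferInstanceAs (IsMonHom (asIso (toUnit T)).inv)
        rw [show inv (toUnit T) = η[T] from (cancel_mono (toUnit T)).1 (toUnit_unique _ _), Category.assoc,
          IsMonHom.one_hom (t₀ ≫ b₀)]
      rw [h1, Category.assoc, IsMonHom.one_hom π])
  intro S _ j _ _ hS
  haveI : IsIso (η[S] : 𝟙_ _ ⟶ S) := hmax.2.2.2 S j η[S] hS (IsMonHom.one_hom j)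
  haveI : IsIso (η[S] : 𝟙_ _ ⟶ S).left := inferInstanceAs (IsIso ((Over.forget _).map (η[S] : 𝟙_ _ ⟶ S)))
  show IsIso S.hom
  haveI : IsIso ((η[S] : 𝟙_ _ ⟶ S).left ≫ S.hom) := by rw [Over.w]; infer_instance
  exact IsIso.of_isIso_comp_left (η[S] : 𝟙_ _ ⟶ S).left S.hom

/-- A homomorphism killing the unipotent radical and all subtori is trivial. -/
theorem eq_one_of_radical {G U W : Over (Spec (CommRingCat.of k))} [GrpObj G] [GrpObj U] [GrpObj W] [IsAffine G.left]
    [Smooth G.hom] [ConnectedSpace G.left] {u : U ⟶ G} (hU : Par.IsUnipotentRadical u) (f : G ⟶ W) [IsMonHom f]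
    (hu : u ≫ f = 1)
    (htor : ∀ (S : Over (Spec (CommRingCat.of k))) [GrpObj S] (j : S ⟶ G) [IsMonHom j] [Mono j], Red.IsTorus S →
      j ≫ f = 1) : f = 1 := by
  haveI : IsSeparated W.hom := ClosedRep.isSeparated_of_field k W
  obtain ⟨T, B₀, _, _, t₀, b₀, -, -, -, hT, -⟩ := exists_maxTorus G
  let iT := t₀ ≫ b₀
  haveI := hT.1; haveI := hT.2.1
  haveI : IsAffineHom G.hom := isAffineHom_of_isAffine G.hom
  obtain ⟨C, _, c, hc, -, -⟩ := MTBridge.exists_centralizer T G
    (MTBridge.locally_of_isMultTypeFT' T (MTBridge.isMultTypeFT_of_isTorus T hT.2.2.1)) inferInstance inferInstance iT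
  obtain ⟨hs, haff, hcl, hconn, hsol, -, -⟩ := centralizer_maxTorus iT hT c hc
  haveI := hs; haveI := haff; haveI := hcl; haveI := hconn; haveI := hsol; haveI := hc.1; haveI := hc.2.1
  haveI : IsReduced C.left := SmoothRed.isReduced_of_smooth_scheme C.hom
  obtain ⟨V, _, v, hv, hVa, hVc, hVt, -, T₀, _, iT₀, π₀, hiT₀, hπ₀, hsec, hT₀, hfac⟩ := exists_radical_core C
  obtain ⟨hvm, hvc, hvn, hvs, -, -, -⟩ := id hv
  haveI := hvm; haveI := hvc; haveI := hvs; haveI := hVa; haveI := hVc
  haveI := hiT₀; haveI := hπ₀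
  let ρ : C ⟶ C := 𝟙 C * (π₀ ≫ iT₀)⁻¹
  have hρ : ρ ≫ π₀ = 1 := by
    simp only [ρ, MonObj.mul_comp, GrpObj.inv_comp, Category.id_comp, Category.assoc, hsec, Category.comp_id,
      mul_inv_cancel]
  obtain ⟨f', hf'⟩ := hfac C ρ 1 hρ (by
    simp only [ρ, MonObj.comp_mul, GrpObj.comp_inv, Category.comp_id, MonObj.one_comp, inv_one, _root_.mul_one])
  haveI : IsClosedImmersion (v ≫ c).left := inferInstanceAs (IsClosedImmersion (v.left ≫ c.left))
  obtain ⟨g, hg⟩ := UniRad.exists_le_of_le_borels hU iT hT (v ≫ c) fun B _ iB t hB ht V' _ v' hv' => by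
    obtain ⟨fB, hfB⟩ := centralizer_le_borel iT hT c hc iB hB t ht
    haveI := hB.1; haveI := hB.2.1; haveI := hB.2.2.1; haveI := hB.2.2.2.1
    haveI : IsAffine B.left := isAffine_of_isAffineHom iB.left
    haveI : Group.IsSolvable (RP B) := isSolvable_rp hB.2.2.2.2.1
    haveI : Mono iB := GrpField.SchImg.mono_of_isClosedImmersion iB
    have hjB : (v ≫ fB) ≫ iB = v ≫ c := by rw [Category.assoc, hfB]
    haveI : IsMonHom (v ≫ fB) := MTSplit.isMonHom_of_comp_mono (v ≫ fB) iB (v ≫ c) hjB
    haveI : IsClosedImmersion (v ≫ fB).left := by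
      haveI : IsClosedImmersion ((v ≫ fB).left ≫ iB.left) := by rw [← Over.comp_left, hjB]; infer_instance
      exact IsClosedImmersion.of_comp (v ≫ fB).left iB.left
    obtain ⟨V₀, _, v₀, hv₀, hV₀a, hV₀c, hV₀t, hV₀u⟩ := exists_radical_univ B
    haveI := hV₀a; haveI := hV₀c; haveI := hv₀.1; haveI := hv₀.2.1; haveI := hv₀.2.2.2.1
    obtain ⟨f₀, hf₀⟩ := hV₀u V (v ≫ fB) inferInstance inferInstance inferInstance hVt
    obtain ⟨f₁, hf₁⟩ := exists_le_radical hv' v₀ hv₀.2.2.1 hV₀t
    exact ⟨f₀ ≫ f₁, by rw [Category.assoc, reassoc_of% hf₁, reassoc_of% hf₀, hfB]⟩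
  haveI : IsSplitMono iT₀ := ⟨⟨π₀, hsec⟩⟩
  have htc : iT₀ ≫ c ≫ f = 1 := by
    rw [← Category.assoc]
    exact htor T₀ (iT₀ ≫ c) hT₀
  have hcf : c ≫ f = 1 := by
    have h1 : 𝟙 C = ρ * (π₀ ≫ iT₀) := by simp only [ρ, inv_mul_cancel_right]
    have h2 := congrArg (fun m => m ≫ c ≫ f) h1
    simp only [Category.id_comp, MonObj.mul_comp, Category.assoc, htc, MonObj.comp_one, _root_.mul_one] at h2
    rw [h2, ← hf', Category.assoc, ← Category.assoc v, ← hg, Category.assoc, hu, MonObj.comp_one, MonObj.comp_one]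
  haveI : IsReduced G.left := SmoothRed.isReduced_of_smooth_scheme G.hom
  have hconj : conjMap c ≫ f = 1 := by
    simp only [conjMap, MonObj.mul_comp, GrpObj.inv_comp, Category.assoc, hcf, MonObj.comp_one, _root_.mul_one,
      mul_inv_cancel]
  let E := Limits.equalizer f 1
  let ei : E ⟶ G := Limits.equalizer.ι _ _
  haveI : IsClosedImmersion ei.left := inferInstance
  obtain ⟨l, hl⟩ := exists_lift_range (𝟙 G) ei (by
    rintro _ ⟨x, rfl⟩
    refine closure_minimal ?_ ei.left.isClosedEmbedding.isClosed_range (denseRange_conjMap iT hT c hc _)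
    rintro _ ⟨y, rfl⟩
    refine ⟨(Limits.equalizer.lift (conjMap c) (hconj.trans (MonObj.comp_one _).symm)).left y, ?_⟩
    rw [← Scheme.Hom.comp_apply, ← Over.comp_left, Limits.equalizer.lift_ι])
  calc f = l ≫ ei ≫ f := by rw [← Category.assoc, hl, Category.id_comp]
    _ = l ≫ ei ≫ (1 : G ⟶ W) := by rw [Limits.equalizer.condition]
    _ = 1 := by rw [MonObj.comp_one, MonObj.comp_one]

/-- **A surjective homomorphism maps the unipotent radical onto the unipotent radical.** -/
theorem exists_radical_map {G G' U U' : Over (Spec (CommRingCat.of k))} [GrpObj G] [GrpObj G'] [GrpObj U] [GrpObj U']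
    [IsAffine G.left] [Smooth G.hom] [ConnectedSpace G.left] [IsAffine G'.left] [Smooth G'.hom]
    [ConnectedSpace G'.left] (π : G ⟶ G') [IsMonHom π] [Surjective π.left] {u : U ⟶ G}
    (hU : Par.IsUnipotentRadical u) {u' : U' ⟶ G'} (hU' : Par.IsUnipotentRadical u') :
    ∃ f : U ⟶ U', f ≫ u' = u ≫ π ∧ Surjective f.left := by
  obtain ⟨hum, huc, hun, hus, -, huf, hmax⟩ := id hU
  obtain ⟨hum', huc', hun', hus', -, huf', -⟩ := id hU'
  haveI := hum; haveI := huc; haveI := hus; haveI := hum'; haveI := huc'; haveI := hus'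
  obtain ⟨hUconn, hUt⟩ := (geomFibre_unipotent_iff U (IsLocalRing.closedPoint k)).1 (huf _)
  obtain ⟨hU'conn, hU't⟩ := (geomFibre_unipotent_iff U' (IsLocalRing.closedPoint k)).1 (huf' _)
  haveI := hUconn; haveI := hU'conn
  haveI : IsAffineHom G.hom := isAffineHom_of_isAffine G.hom
  haveI : IsAffineHom G'.hom := isAffineHom_of_isAffine G'.hom
  haveI : IsAffine U.left := isAffine_of_isAffineHom u.left
  haveI : IsAffine U'.left := isAffine_of_isAffineHom u'.left
  haveI : IsAffineHom U.hom := isAffineHom_of_isAffine U.hom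
  haveI : Mono u := GrpField.SchImg.mono_of_isClosedImmersion u
  haveI : Mono u' := GrpField.SchImg.mono_of_isClosedImmersion u'
  haveI : IsReduced U'.left := SmoothRed.isReduced_of_smooth_scheme U'.hom
  haveI : IsSeparated G'.hom := inferInstance
  let φ : U ⟶ G' := u ≫ π
  haveI : IsMonHom φ := by dsimp [φ]; infer_instance
  haveI : QuasiCompact φ.left := by
    haveI : QuasiCompact (φ.left ≫ G'.hom) := by rw [Over.w]; infer_instance
    exact QuasiCompact.of_comp φ.left G'.hom
  obtain ⟨K, _, i, g, him, hgm, hgi, hic, hgd, hgq, hgs⟩ := GrpField.SchImg.exists_image φ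
  haveI := him; haveI := hgm; haveI := hic; haveI := hgd; haveI := hgq; haveI := hgs
  haveI := GrpField.SchImg.geometricallyReduced_of_smooth U.hom
  haveI := GrpField.SchImg.geometricallyReduced_of_schDom g
  haveI : LocallyOfFiniteType K.hom := by rw [← Over.w i]; infer_instance
  haveI : QuasiCompact K.hom := by rw [← Over.w i]; infer_instance
  haveI : Smooth K.hom := by
    letI : GrpObj (Over.mk K.hom) := ‹GrpObj K›
    exact smooth_of_grpObj K.hom
  haveI : ConnectedSpace K.left := g.left.surjective.connectedSpace g.left.continuous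
  haveI : IsAffine K.left := isAffine_of_isAffineHom i.left
  haveI : IsReduced K.left := SmoothRed.isReduced_of_smooth_scheme K.hom
  -- the image is normal
  have hin : AlgGrp.IsNormalHom i := by
    obtain ⟨hc, hs, hred⟩ := prod_conn G' K
    haveI := hs; haveI := hred
    let F : G' ⊗ K ⟶ G' := fst G' K * (snd G' K ≫ i) * (fst G' K)⁻¹
    obtain ⟨m, hm⟩ := exists_lift_rp F i fun z => by
      obtain ⟨a, ha⟩ := exists_rp_of_mem_range π (z ≫ fst G' K) (π.left.surjective _)
      obtain ⟨b, hb⟩ := exists_rp_of_mem_range g (z ≫ snd G' K) (g.left.surjective _)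
      obtain ⟨b', hb'⟩ := hun _ a b
      refine ⟨rpt (b' ≫ g), ?_⟩
      rw [map_rpt]
      congr 1
      simp only [F, MonObj.comp_mul, GrpObj.comp_inv]
      rw [← Category.assoc z (snd G' K) i, ← ha, ← hb, Category.assoc, Category.assoc, hgi]
      simp only [φ, ← Category.assoc]
      rw [← hb']
      simp only [MonObj.mul_comp, GrpObj.inv_comp, Category.assoc]
    intro X a z
    refine ⟨lift a z ≫ m, ?_⟩
    rw [Category.assoc, hm, MonObj.comp_mul, MonObj.comp_mul, GrpObj.comp_inv, CartesianMonoidalCategory.lift_snd_assoc,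
      CartesianMonoidalCategory.lift_fst]
  obtain ⟨h, hh⟩ := exists_le_radical hU' i hin (image_noSubtorus hUt g)
  haveI : IsMonHom h := MTSplit.isMonHom_of_comp_mono h u' i hh
  haveI : IsClosedImmersion h.left := by
    haveI : IsClosedImmersion (h.left ≫ u'.left) := by rw [← Over.comp_left, hh]; exact hic
    exact IsClosedImmersion.of_comp h.left u'.left
  have hhn : AlgGrp.IsNormalHom h := by
    intro X a z
    obtain ⟨z', hz'⟩ := hin X (a ≫ u') z
    refine ⟨z', (cancel_mono u').1 ?_⟩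
    rw [Category.assoc, hh, ← hz', MonObj.mul_comp, MonObj.mul_comp, GrpObj.inv_comp, Category.assoc, hh]
  haveI : LocallyOfFiniteType U'.hom := inferInstance
  obtain ⟨Q, _, q, hqm, hQa, hQl, hqf, hqs, hqk⟩ := S3278.result k U' K h hhn
  haveI := hqm; haveI := hQl
  obtain ⟨R, _, r, p, hrm, hpm, hrc, hRs, hRc, hrn, hps, hp⟩ := exists_normal_cover π u' hun'
  haveI := hrm; haveI := hpm; haveI := hrc; haveI := hRs; haveI := hRc; haveI := hps
  haveI : IsAffine R.left := isAffine_of_isAffineHom r.left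
  haveI : Mono r := GrpField.SchImg.mono_of_isClosedImmersion r
  obtain ⟨RU, _, ru, hru, hRUa, hRUc, hRUt, -⟩ := exists_unipotentRadical R
  obtain ⟨hrum, hruc, hrun, hrus, -, -, -⟩ := id hru
  haveI := hrum; haveI := hruc; haveI := hrus; haveI := hRUa; haveI := hRUc
  obtain ⟨V, _, v, hv, hVa, hVc, hVt, hVuniv⟩ := exists_unipotentRadical G
  haveI := hVa; haveI := hVc; haveI := hv.1; haveI := hv.2.1; haveI := hv.2.2.2.1
  obtain ⟨a₁, ha₁⟩ := hVuniv R r hrc hRs hRc hrn RU ru hruc hrus hRUc hrun hRUt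
  obtain ⟨a₂, ha₂⟩ := exists_le_radical hU v hv.2.2.1 hVt
  have hker : h ≫ q = 1 := by
    rw [hqk.w, Hom.one_def]
  have hrad : ru ≫ p ≫ q = 1 := by
    have e1 : ru ≫ p = a₁ ≫ a₂ ≫ g ≫ h := (cancel_mono u').1 (by
      simp only [Category.assoc, hp, hh, hgi, φ]
      rw [reassoc_of% ha₂, reassoc_of% ha₁])
    rw [← Category.assoc, e1]
    simp only [Category.assoc, hker, MonObj.comp_one]
  have htor : ∀ (S : Over (Spec (CommRingCat.of k))) [GrpObj S] (jS : S ⟶ R) [IsMonHom jS] [Mono jS], Red.IsTorus S →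
      jS ≫ p ≫ q = 1 := by
    intro S _ jS _ _ hS
    haveI := smooth_of_isTorus hS
    haveI := isAffine_of_isTorus hS
    haveI := connectedSpace_of_isTorus hS
    haveI : QuasiCompact S.hom := haveI := isAffineHom_of_isAffine S.hom; inferInstance
    haveI : LocallyOfFiniteType S.hom := inferInstance
    let ψ : S ⟶ U' := jS ≫ p
    haveI : IsMonHom ψ := by dsimp [ψ]; infer_instance
    haveI : QuasiCompact ψ.left := by
      haveI : IsSeparated U'.hom := inferInstance
      haveI : QuasiCompact (ψ.left ≫ U'.hom) := by rw [Over.w]; infer_instance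
      exact QuasiCompact.of_comp ψ.left U'.hom
    obtain ⟨M, _, m, gm, hmm, hgmm, hgmi, hmc, hgmd, hgmq, hgms⟩ := GrpField.SchImg.exists_image ψ
    haveI := hmm; haveI := hgmm; haveI := hmc; haveI := hgmd; haveI := hgmq; haveI := hgms
    haveI := GrpField.SchImg.geometricallyReduced_of_smooth S.hom
    haveI := GrpField.SchImg.geometricallyReduced_of_schDom gm
    haveI : LocallyOfFiniteType M.hom := by rw [← Over.w m]; infer_instance
    haveI : QuasiCompact U'.hom := haveI := isAffineHom_of_isAffine U'.hom; inferInstance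
    haveI : QuasiCompact M.hom := by rw [← Over.w m]; infer_instance
    haveI : Smooth M.hom := by
      letI : GrpObj (Over.mk M.hom) := ‹GrpObj M›
      exact smooth_of_grpObj M.hom
    haveI : Mono m := GrpField.SchImg.mono_of_isClosedImmersion m
    haveI : IsIso M.hom := hU't M m (isTorus_of_surjective hS gm)
    have hg1 : gm = toUnit S ≫ η[M] :=
      Over.OverMorphism.ext ((cancel_mono M.hom).1 (by rw [Over.w gm, Over.w (toUnit S ≫ η[M])]))
    rw [← Category.assoc, show jS ≫ p = ψ from rfl, ← hgmi, hg1, Category.assoc, Category.assoc, ← Category.assoc η[M],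
      IsMonHom.one_hom m, IsMonHom.one_hom q, Hom.one_def]
  haveI : IsMonHom (p ≫ q) := inferInstance
  have hpq := eq_one_of_radical hru (p ≫ q) hrad htor
  haveI : Surjective h.left := by
    refine ⟨fun x => ?_⟩
    refine (Set.range_eq_univ.1 ?_) x
    haveI : JacobsonSpace U'.left := LocallyOfFiniteType.jacobsonSpace U'.hom
    refine Set.eq_univ_of_univ_subset ?_
    rw [← closure_closedPoints (X := U'.left)]
    refine closure_minimal ?_ h.left.isClosedEmbedding.isClosed_range
    intro w hw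
    obtain ⟨z, rfl⟩ := exists_rpt hw
    obtain ⟨y, hy⟩ := exists_rp_of_mem_range p z (p.left.surjective _)
    have hzq : z ≫ q = toUnit (𝟙_ _) ≫ η[Q] := by
      rw [← hy, Category.assoc, hpq, MonObj.comp_one, Hom.one_def]
    exact ⟨rpt (hqk.lift z (toUnit _) hzq), by rw [map_rpt, hqk.lift_fst]⟩
  refine ⟨g ≫ h, by rw [Category.assoc, hh, hgi], ?_⟩
  exact inferInstanceAs (Surjective (g.left ≫ h.left))

end Groth.Agent.RedQuot
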