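import Groth.Agent.SSPerf.Main
import Groth.Agent.Chev.MaxTorusImage
import Groth.Agent.Chev.TorusImage
import Groth.Agent.Chev.AffImage
import Groth.Agent.GrpField.SchImgSmooth
import Groth.Agent.FlatMor.ReducedDescent

/-!
# Quotients of reductive and semisimple groups
-/

set_option autoImplicit false
set_option backward.isDefEq.respectTransparency false
set_option linter.style.haveILetI false
set_option linter.unusedSectionVars false
set_option maxHeartbeats 1000000
set_option synthInstance.maxHeartbeats 200000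

universe u

open CategoryTheory CategoryTheory.Limits MonoidalCategory CartesianMonoidalCategory MonObj GrpObj AlgebraicGeometry
open Groth.Agent.SubGen (rpt map_rpt exists_rpt)

noncomputable section

namespace Groth.Agent.RedQuot

open Chev Chev.BorelFixed Chev.Borel RedCartan UniRad

variable {k : Type u} [Field k] [IsAlgClosed k] {G H : Over (Spec (CommRingCat.of k))} [GrpObj G] [GrpObj H]
  [IsAffine G.left] [Smooth G.hom] [ConnectedSpace G.left]

/-- A group without points other than the unit is trivial. -/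
theorem isTrivialGrp_of_rp {U : Over (Spec (CommRingCat.of k))} [GrpObj U] [IsReduced U.left]
    [LocallyOfFiniteType U.hom] (h : ∀ z : RP U, z = 1) : Red.IsTrivialGrp U := by
  haveI : IsSeparated U.hom := GrpField.isSeparated_hom U
  have hid : 𝟙 U = toUnit U ≫ η[U] := by
    rw [← Hom.one_def]
    exact hom_ext_rp fun z => by rw [Category.comp_id, MonObj.comp_one, h z]
  refine ⟨η[U].left, ?_, Over.w η[U]⟩
  have e := congrArg CommaMorphism.left hid
  simp only [Over.comp_left, Over.toUnit_left] at e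
  exact e.symm

/-- Homomorphisms from a reductive group to a group without subtori are trivial. -/
theorem eq_one_to_noSubtorus (hG : Red.IsReductiveOver k G) {U : Over (Spec (CommRingCat.of k))} [GrpObj U]
    [LocallyOfFiniteType U.hom] [QuasiCompact U.hom] (hU : Red.HasNoSubtorus k U) (f : G ⟶ U) [IsMonHom f] : f = 1 := by
  obtain ⟨T, B₀, _, _, t₀, b₀, -, -, hB₀, hT, -⟩ := exists_maxTorus G
  refine SSPerf.eq_one_of_maxTorus hG (t₀ ≫ b₀) hT f ?_
  haveI := hT.1; haveI := hT.2.1
  haveI := isAffine_of_isTorus hT.2.2.1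
  haveI := smooth_of_isTorus hT.2.2.1
  haveI : IsSeparated U.hom := GrpField.isSeparated_hom U
  haveI : QuasiCompact T.hom := haveI := isAffineHom_of_isAffine T.hom; inferInstance
  let φ : T ⟶ U := (t₀ ≫ b₀) ≫ f
  haveI : IsMonHom φ := by dsimp [φ]; infer_instance
  haveI : QuasiCompact φ.left := by
    haveI : QuasiCompact (φ.left ≫ U.hom) := by rw [Over.w]; infer_instance
    exact QuasiCompact.of_comp φ.left U.hom
  obtain ⟨K, _, i, g, him, hgm, hgi, hic, hgd, hgq, hgs⟩ := GrpField.SchImg.exists_image φ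
  haveI := him; haveI := hgm; haveI := hic; haveI := hgd; haveI := hgq; haveI := hgs
  haveI := GrpField.SchImg.geometricallyReduced_of_smooth T.hom
  haveI := GrpField.SchImg.geometricallyReduced_of_schDom g
  haveI : LocallyOfFiniteType K.hom := by rw [← Over.w i]; infer_instance
  haveI : QuasiCompact K.hom := by rw [← Over.w i]; infer_instance
  haveI : Smooth K.hom := by
    letI : GrpObj (Over.mk K.hom) := ‹GrpObj K›
    exact smooth_of_grpObj K.hom
  haveI : Mono i := GrpField.SchImg.mono_of_isClosedImmersion i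
  haveI : IsIso K.hom := hU K i (isTorus_of_surjective hT.2.2.1 g)
  have hg1 : g = toUnit T ≫ η[K] :=
    Over.OverMorphism.ext ((cancel_mono K.hom).1 (by rw [Over.w g, Over.w (toUnit T ≫ η[K])]))
  show φ = 1
  rw [← hgi, hg1, Category.assoc, IsMonHom.one_hom i, Hom.one_def]

/-- A connected normal subgroup of the target is the image of a connected normal subgroup of the source. -/
theorem exists_normal_cover [Smooth H.hom] [QuasiCompact H.hom] [ConnectedSpace H.left] (π : G ⟶ H) [IsMonHom π]
    [Surjective π.left] {U : Over (Spec (CommRingCat.of k))} [GrpObj U] [Smooth U.hom] [ConnectedSpace U.left]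
    (j : U ⟶ H) [IsMonHom j] [IsClosedImmersion j.left] (hn : AlgGrp.IsNormalHom j) :
    ∃ (R : Over (Spec (CommRingCat.of k))) (_ : GrpObj R) (r : R ⟶ G) (p : R ⟶ U), IsMonHom r ∧ IsMonHom p ∧
      IsClosedImmersion r.left ∧ Smooth R.hom ∧ ConnectedSpace R.left ∧ AlgGrp.IsNormalHom r ∧ Surjective p.left ∧
      p ≫ j = r ≫ π := by
  haveI : IsAffineHom G.hom := isAffineHom_of_isAffine G.hom
  haveI : IsSeparated H.hom := GrpField.isSeparated_hom H
  haveI : Mono j := GrpField.SchImg.mono_of_isClosedImmersion j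
  let P : Over (Spec (CommRingCat.of k)) := Over.mk (pullback.fst π.left j.left ≫ G.hom)
  let iP : P ⟶ G := Over.homMk (pullback.fst π.left j.left) rfl
  let p : P ⟶ U := Over.homMk (pullback.snd π.left j.left) (by
    show pullback.snd π.left j.left ≫ U.hom = pullback.fst π.left j.left ≫ G.hom
    rw [← Over.w j, ← pullback.condition_assoc, Over.w π])
  haveI : IsClosedImmersion iP.left := inferInstanceAs (IsClosedImmersion (pullback.fst π.left j.left))
  haveI : Mono iP := GrpField.SchImg.mono_of_isClosedImmersion iP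
  have hp : iP ≫ π = p ≫ j := Over.OverMorphism.ext pullback.condition
  have hsq : IsPullback iP p π j := by
    refine IsPullback.mk' hp (fun T φ φ' e₁ _ => (cancel_mono iP).1 e₁) fun T a b e => ?_
    refine ⟨Over.homMk (pullback.lift a.left b.left (congrArg (fun x => x.left) e)) ?_,
      Over.OverMorphism.ext (pullback.lift_fst _ _ _), Over.OverMorphism.ext (pullback.lift_snd _ _ _)⟩
    show pullback.lift _ _ _ ≫ pullback.fst _ _ ≫ G.hom = _
    rw [pullback.lift_fst_assoc, Over.w]
  haveI : Surjective p.left := MorphismProperty.pullback_snd _ _ ‹Surjective π.left›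
  obtain ⟨hPg, hPm⟩ := GrpField.SchImg.exists_grpObj_of_div iP
    ⟨hsq.lift η[G] η[U] (by rw [IsMonHom.one_hom, IsMonHom.one_hom]), hsq.lift_fst _ _ _⟩
    fun T a b => ⟨hsq.lift ((a ≫ iP)⁻¹ * (b ≫ iP)) ((a ≫ p)⁻¹ * (b ≫ p)) (by
      rw [MonObj.mul_comp, GrpObj.inv_comp, MonObj.mul_comp, GrpObj.inv_comp]
      simp only [Category.assoc, hp]), hsq.lift_fst _ _ _⟩
  haveI := hPm
  haveI : IsMonHom (p ≫ j) := by rw [← hp]; infer_instance
  haveI : IsMonHom p := MTSplit.isMonHom_of_comp_mono p j (p ≫ j) rfl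
  haveI : LocallyOfFiniteType P.hom := by rw [← Over.w iP]; infer_instance
  haveI : QuasiCompact P.hom := by rw [← Over.w iP]; infer_instance
  obtain ⟨P₁, _, r₁, hr₁m, hr₁c, hr₁s, hP₁s⟩ := exists_red_group P
  haveI := hr₁m; haveI := hr₁c; haveI := hr₁s; haveI := hP₁s
  haveI : IsReduced P₁.left := SmoothRed.isReduced_of_smooth_scheme P₁.hom
  haveI : QuasiCompact P₁.hom := by rw [← Over.w r₁]; infer_instance
  obtain ⟨R, _, c, hcm, hco, hcc, hRconn, -⟩ := RedOpen.exists_open_connected P₁
  haveI := hcm; haveI := hco; haveI := hcc; haveI := hRconn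
  haveI : Smooth R.hom := by rw [← Over.w c]; infer_instance
  haveI : IsClosedImmersion (c ≫ r₁ ≫ iP).left :=
    inferInstanceAs (IsClosedImmersion (c.left ≫ r₁.left ≫ iP.left))
  haveI : IsClosedImmersion (r₁ ≫ iP).left := inferInstanceAs (IsClosedImmersion (r₁.left ≫ iP.left))
  haveI : Mono (r₁ ≫ iP) := GrpField.SchImg.mono_of_isClosedImmersion _
  haveI : QuasiCompact U.hom := by rw [← Over.w j]; infer_instance
  haveI : IsReduced U.left := SmoothRed.isReduced_of_smooth_scheme U.hom
  haveI : Surjective (r₁ ≫ p).left := inferInstanceAs (Surjective (r₁.left ≫ p.left))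
  have hsurj : Surjective (c ≫ r₁ ≫ p).left :=
    MaxTorusImage.surjective_component (r₁ ≫ p) c c.left.isOpenEmbedding.isOpen_range
  refine ⟨R, inferInstance, c ≫ r₁ ≫ iP, c ≫ r₁ ≫ p, inferInstance, inferInstance, inferInstance, inferInstance,
    hRconn, ?_, hsurj, by simp only [Category.assoc, hp]⟩
  obtain ⟨hc, hs, hred⟩ := prod_conn G R
  haveI := hc; haveI := hs; haveI := hred
  let F : G ⊗ R ⟶ G := fst G R * (snd G R ≫ c ≫ r₁ ≫ iP) * (fst G R)⁻¹
  obtain ⟨n, hn'⟩ := hn (G ⊗ R) (fst G R ≫ π) (snd G R ≫ c ≫ r₁ ≫ p)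
  let FP : G ⊗ R ⟶ P := hsq.lift F n (by
    rw [← hn']
    simp only [F, MonObj.mul_comp, GrpObj.inv_comp, Category.assoc, hp])
  have hFP : FP ≫ iP = F := hsq.lift_fst _ _ _
  obtain ⟨F₁, hF₁⟩ := exists_lift_range F (r₁ ≫ iP) (by
    rw [← hFP, Over.comp_left, Over.comp_left, Scheme.Hom.comp_base, TopCat.coe_comp, Scheme.Hom.comp_base,
      TopCat.coe_comp, Set.range_comp, Set.range_comp, Set.range_eq_univ.2 r₁.left.surjective]
    exact Set.image_mono (Set.subset_univ _))
  obtain ⟨t₀⟩ : Nonempty ↥(𝟙_ (Over (Spec (CommRingCat.of k)))).left := inferInstanceAs (Nonempty (PrimeSpectrum k))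
  have h1 : lift η[G] η[R] ≫ F₁ = η[P₁] := (cancel_mono (r₁ ≫ iP)).1 (by
    rw [Category.assoc, hF₁, IsMonHom.one_hom (r₁ ≫ iP)]
    simp only [F, MonObj.comp_mul, GrpObj.comp_inv, CartesianMonoidalCategory.lift_fst,
      CartesianMonoidalCategory.lift_snd_assoc]
    rw [IsMonHom.one_hom (c ≫ r₁ ≫ iP), MonObj.one_eq_one, _root_.mul_one, mul_inv_cancel])
  obtain ⟨F₂, hF₂⟩ := RedOpen.exists_factor_conn c F₁ ⟨(lift η[G] η[R] : 𝟙_ _ ⟶ G ⊗ R).left t₀, η[R].left t₀, by
    rw [← Scheme.Hom.comp_apply, ← Scheme.Hom.comp_apply, ← Over.comp_left, ← Over.comp_left, h1,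
      IsMonHom.one_hom c]⟩
  intro X g z
  refine ⟨lift g z ≫ F₂, ?_⟩
  have h2 := congrArg (lift g z ≫ ·) hF₁
  simp only [F, MonObj.comp_mul, GrpObj.comp_inv, CartesianMonoidalCategory.lift_fst,
    CartesianMonoidalCategory.lift_snd_assoc] at h2
  rw [← h2, Category.assoc, reassoc_of% hF₂]

/-- **A smooth connected quotient of a reductive group is reductive.** -/
theorem isReductiveOver_of_surjective [Smooth H.hom] [QuasiCompact H.hom] [ConnectedSpace H.left]
    (hG : Red.IsReductiveOver k G) (π : G ⟶ H) [IsMonHom π] [Surjective π.left] : Red.IsReductiveOver k H := by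
  haveI : IsSeparated H.hom := GrpField.isSeparated_hom H
  haveI : IsReduced H.left := SmoothRed.isReduced_of_smooth_scheme H.hom
  haveI : IsAffineHom G.hom := isAffineHom_of_isAffine G.hom
  haveI : IsAffine H.left := isAffine_of_surjective π
  refine ⟨inferInstance, inferInstance, inferInstance, fun U _ i _ hic hUs hUc hUn hUt => ?_⟩
  haveI := hic; haveI := hUs; haveI := hUc
  haveI : LocallyOfFiniteType U.hom := inferInstance
  haveI : QuasiCompact U.hom := by rw [← Over.w i]; infer_instance
  obtain ⟨R, _, r, p, hrm, hpm, hrc, hRs, hRc, hrn, hps, -⟩ := exists_normal_cover π i hUn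
  haveI := hrm; haveI := hpm; haveI := hrc; haveI := hRs; haveI := hRc; haveI := hps
  haveI : IsAffine R.left := isAffine_of_isAffineHom r.left
  have hp1 := eq_one_to_noSubtorus (isReductiveOver_of_normal hG r hrn) hUt p
  haveI : IsReduced U.left := SmoothRed.isReduced_of_smooth_scheme U.hom
  refine isTrivialGrp_of_rp fun z => ?_
  obtain ⟨y, hy⟩ := exists_rp_of_mem_range p z (p.left.surjective _)
  rw [← hy, hp1, MonObj.comp_one]

/-- **A smooth connected quotient of a semisimple group is semisimple.** -/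
theorem isSemisimpleOver_of_surjective [Smooth H.hom] [QuasiCompact H.hom] [ConnectedSpace H.left]
    (hG : Red.IsSemisimpleOver k G) (π : G ⟶ H) [IsMonHom π] [Surjective π.left] : Red.IsSemisimpleOver k H := by
  refine ⟨isReductiveOver_of_surjective hG.1 π, fun S _ i _ hic hSn hS => ?_⟩
  haveI := hic
  haveI := smooth_of_isTorus hS
  haveI := connectedSpace_of_isTorus hS
  haveI := isAffine_of_isTorus hS
  haveI : IsReduced S.left := SmoothRed.isReduced_of_smooth_scheme S.hom
  haveI : IsCommMonObj S := by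
    haveI : Smooth (S ⊗ S).hom := by
      show Smooth (pullback.fst S.hom S.hom ≫ S.hom)
      infer_instance
    haveI : IsReduced (S ⊗ S).left := SmoothRed.isReduced_of_smooth_scheme (S ⊗ S).hom
    haveI : IsSeparated S.hom := inferInstance
    refine ⟨?_⟩
    have h : snd S S * fst S S = fst S S * snd S S := hom_ext_rp fun z => by
      rw [MonObj.comp_mul, MonObj.comp_mul, rp_torus_comm hS]
    have h1 : μ[S] = fst S S * snd S S := by rw [Hom.mul_def]; simp
    rw [h1, MonObj.comp_mul, braiding_hom_fst, braiding_hom_snd]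
    exact h
  obtain ⟨R, _, r, p, hrm, hpm, hrc, hRs, hRc, hrn, hps, -⟩ := exists_normal_cover π i hSn
  haveI := hrm; haveI := hpm; haveI := hrc; haveI := hRs; haveI := hRc; haveI := hps
  haveI : IsAffine R.left := isAffine_of_isAffineHom r.left
  have hp1 := SSPerf.eq_one_of_comm (isSemisimpleOver_of_normal hG r hrn) p
  refine isTrivialGrp_of_rp fun z => ?_
  obtain ⟨y, hy⟩ := exists_rp_of_mem_range p z (p.left.surjective _)
  rw [← hy, hp1, MonObj.comp_one]

end Groth.Agent.RedQuot
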