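import Groth.Agent.RedQuot.Radical

/-!
# The quotient by the unipotent radical is reductive
-/

set_option autoImplicit false
set_option backward.isDefEq.respectTransparency false
set_option linter.style.haveILetI false
set_option maxHeartbeats 1000000
set_option synthInstance.maxHeartbeats 200000

universe u

open CategoryTheory CategoryTheory.Limits MonoidalCategory CartesianMonoidalCategory MonObj GrpObj AlgebraicGeometry
open Groth.Agent.SubGen (rpt map_rpt exists_rpt)

noncomputable section

namespace Groth.Agent.RedQuot

open Chev Chev.BorelFixed Chev.Borel RedCartan UniRad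

variable {k : Type u} [Field k] [IsAlgClosed k]

/-- A surjective image in which the unipotent radical dies is reductive. -/
theorem isReductiveOver_of_radical_killed {G G' U : Over (Spec (CommRingCat.of k))} [GrpObj G] [GrpObj G'] [GrpObj U]
    [IsAffine G.left] [Smooth G.hom] [ConnectedSpace G.left] [IsAffine G'.left] [Smooth G'.hom]
    [ConnectedSpace G'.left] (π : G ⟶ G') [IsMonHom π] [Surjective π.left] {u : U ⟶ G}
    (hU : Par.IsUnipotentRadical u) (hkill : u ≫ π = 1) : Red.IsReductiveOver k G' := by
  refine ⟨inferInstance, inferInstance, inferInstance, fun V _ v _ hvc hVs hVc hVn hVt => ?_⟩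
  haveI := hvc; haveI := hVs; haveI := hVc
  haveI : IsAffineHom G'.hom := isAffineHom_of_isAffine G'.hom
  haveI : IsAffineHom G.hom := isAffineHom_of_isAffine G.hom
  haveI : IsAffine V.left := isAffine_of_isAffineHom v.left
  obtain ⟨U', _, u', hU', -⟩ := exists_unipotentRadical G'
  obtain ⟨hu'm, hu'c, -, hu's, -⟩ := id hU'
  haveI := hu'm; haveI := hu'c; haveI := hu's
  haveI := hU.2.1; haveI := hU.2.2.2.1
  obtain ⟨f, hf, hfs⟩ := exists_radical_map π hU hU'
  obtain ⟨h, hh⟩ := exists_le_radical hU' v hVn hVt
  haveI : Mono v := GrpField.SchImg.mono_of_isClosedImmersion v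
  haveI : IsReduced V.left := SmoothRed.isReduced_of_smooth_scheme V.hom
  haveI : LocallyOfFiniteType U.hom := inferInstance
  haveI : LocallyOfFiniteType U'.hom := inferInstance
  refine isTrivialGrp_of_rp fun z => (cancel_mono v).1 ?_
  obtain ⟨y, hy⟩ := exists_rp_of_mem_range f (z ≫ h) (hfs.surj _)
  rw [MonObj.one_comp, ← hh, ← Category.assoc z, ← hy, Category.assoc, hf, hkill, MonObj.comp_one]

end Groth.Agent.RedQuot
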